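import Cfsg.Agent.Lib.RuAut.Simple
import Cfsg.Agent.Lib.RuRankThree68.DataTabs

/-!
# The orthogonality graph on the 4060 lines
-/

set_option autoImplicit false
set_option maxRecDepth 100000
set_option maxHeartbeats 4000000
set_option Elab.async false

namespace Cfsg.Agent.Lib.RuRankThree68

open Cfsg.Spor Cfsg.Agent.Lib.RuAut
open Cfsg.Agent.Lib.Compute (getP forceNat forceNat_eq)

/-- Two lines are orthogonal. -/
def Orth (v w : Fin 4060) : Prop := herm (vecId (4 * (w : ℕ))) (vecId (4 * (v : ℕ))) = 0

theorem herm_zero_right {x y : ℕ} (h : x / 4 = y / 4) (z : RuVec) (h0 : herm z (vecId x) = 0) :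
    herm z (vecId y) = 0 := by
  have e : y = rotId x ((y % 4 + 4 - x % 4) % 4) := by unfold rotId; omega
  rw [e, vecId_rot, herm_smul_right, h0, mul_zero]

theorem herm_zero_congr {x x' y y' : ℕ} (hx : x / 4 = x' / 4) (hy : y / 4 = y' / 4) :
    herm (vecId x) (vecId y) = 0 ↔ herm (vecId x') (vecId y') = 0 :=
  ⟨fun h => herm_zero_right hy _ (herm_zero_line hx _ h),
    fun h => herm_zero_right hy.symm _ (herm_zero_line hx.symm _ h)⟩

theorem orth_lineAct (f : fourRu) (v w : Fin 4060) :
    Orth (lineAct f v) (lineAct f w) ↔ Orth v w := by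
  have hv : 4 * (v : ℕ) < 16240 := by omega
  have hw : 4 * (w : ℕ) < 16240 := by omega
  unfold Orth
  rw [lineAct_apply, lineAct_apply, ← herm_img f hw hv]
  exact herm_zero_congr (by omega) (by omega)

theorem orth_smul (g : lineGroup) (v w : Fin 4060) : Orth (g • v) (g • w) ↔ Orth v w := by
  obtain ⟨_, f, rfl⟩ := g
  exact orth_lineAct f v w

theorem orth_zero (w : Fin 4060) : Orth 0 w ↔ ∃ k : Fin 1755, aLine k = w := by
  constructor
  · intro h
    obtain ⟨k, hk, e⟩ := orth_line (x := 4 * (w : ℕ)) (by omega) h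
    refine ⟨⟨k, hk⟩, Fin.ext ?_⟩
    show aNode k / 4 = (w : ℕ)
    omega
  · rintro ⟨k, rfl⟩
    refine herm_zero_line ?_ _ (aTree_facts.2.1 k k.isLt).2
    show aNode k / 4 = 4 * (aNode k / 4) / 4
    omega

/-! ### Image tables -/

/-- The packed images of the lines under an element. -/
noncomputable def tabAt (j : ℕ) : ℕ := Data.tabs.getD j 0

/-- A table gives the images. -/
noncomputable def tabOk (j : ℕ) : Bool :=
  forceNat (mkTab (genF j)) fun tab => forceNat (tabAt j) fun t =>
    (List.range 4060).all fun l => Nat.blt (getP 12 t l) 4060 && edgeLine tab (4 * l) (4 * getP 12 t l)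

theorem tabs_0 : tabOk 0 = true := by decide +kernel
theorem tabs_1 : tabOk 1 = true := by decide +kernel
theorem tabs_2 : tabOk 2 = true := by decide +kernel
theorem tabs_3 : tabOk 3 = true := by decide +kernel
theorem tabs_4 : tabOk 4 = true := by decide +kernel
theorem tabs_5 : tabOk 5 = true := by decide +kernel
theorem tabs_6 : tabOk 6 = true := by decide +kernel
theorem tabs_7 : tabOk 7 = true := by decide +kernel
theorem tabs_8 : tabOk 8 = true := by decide +kernel
theorem tabs_9 : tabOk 9 = true := by decide +kernel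
theorem tabs_10 : tabOk 10 = true := by decide +kernel
theorem tabs_11 : tabOk 11 = true := by decide +kernel
theorem tabs_12 : tabOk 12 = true := by decide +kernel
theorem tabs_13 : tabOk 13 = true := by decide +kernel
theorem tabs_14 : tabOk 14 = true := by decide +kernel
theorem tabs_15 : tabOk 15 = true := by decide +kernel
theorem tabs_16 : tabOk 16 = true := by decide +kernel

theorem tab_spec {j : ℕ} (hj : j < 17) (l : Fin 4060) :
    getP 12 (tabAt j) l < 4060 ∧ ((lineAct (gen j) l : Fin 4060) : ℕ) = getP 12 (tabAt j) l := by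
  have h : tabOk j = true := by
    interval_cases j
    exacts [tabs_0, tabs_1, tabs_2, tabs_3, tabs_4, tabs_5, tabs_6, tabs_7, tabs_8, tabs_9, tabs_10, tabs_11, tabs_12, tabs_13, tabs_14, tabs_15, tabs_16]
  simp only [tabOk, forceNat_eq, List.all_eq_true, List.mem_range, Bool.and_eq_true, Nat.blt_eq] at h
  obtain ⟨hlt, he⟩ := h l l.isLt
  refine ⟨hlt, ?_⟩
  have := edgeLine_sound (by omega : j < 32) (by omega : 4 * (l : ℕ) < 16240) he
  rw [lineAct_apply]
  omega

end Cfsg.Agent.Lib.RuRankThree68
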