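import Cfsg.Agent.Lib.RuRankThree68.Rows
import Cfsg.Agent.Lib.RuRankThree68.DataColours

/-!
# Colourings invariant under automorphisms fixing the base
-/

set_option autoImplicit false
set_option maxRecDepth 100000
set_option maxHeartbeats 4000000
set_option Elab.async false

namespace Cfsg.Agent.Lib.RuRankThree68

open Cfsg.Spor Cfsg.Agent.Lib.RuAut
open Cfsg.Agent.Lib.Compute (getP forceNat forceNat_eq)

/-- A packed colouring. -/
noncomputable def colCode (i : ℕ) : ℕ := (Data.colours.getD (i / 64) []).getD (i % 64) 0

/-- A colour. -/
noncomputable def colour (i v : ℕ) : ℕ := getP 12 (colCode i) v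

/-- Whether a step individualises a line. -/
noncomputable def isInd (i : ℕ) : Bool := (Data.steps.getD i (false, 0, [], [], 0)).1

/-- The class counted by a step. -/
noncomputable def clsOf (i : ℕ) : ℕ := (Data.steps.getD i (false, 0, [], [], 0)).2.1

/-- The lines of a step. -/
noncomputable def memOf (i : ℕ) : List ℕ := (Data.steps.getD i (false, 0, [], [], 0)).2.2.1

/-- Their positions in the tree. -/
noncomputable def posOf (i : ℕ) : List ℕ := (Data.steps.getD i (false, 0, [], [], 0)).2.2.2.1

/-- The recolouring of a step. -/
noncomputable def recol (i : ℕ) : ℕ := (Data.steps.getD i (false, 0, [], [], 0)).2.2.2.2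

/-- Force a list of numbers. -/
noncomputable def forceList : List ℕ → (List ℕ → Bool) → Bool
  | [], k => k []
  | a :: l, k => forceNat a fun x => forceList l fun r => k (x :: r)

theorem forceList_eq : ∀ (l : List ℕ) (k : List ℕ → Bool), forceList l k = k l
  | [], _ => rfl
  | a :: l, k => by rw [forceList, forceNat_eq, forceList_eq l]

/-- How many of the rows contain a line. -/
noncomputable def bitCount : List ℕ → ℕ → ℕ
  | [], _ => 0
  | r :: l, v => Nat.add (Nat.land (Nat.shiftRight r v) 1) (bitCount l v)

theorem bitCount_eq : ∀ (l : List ℕ) (v : ℕ), bitCount l v = l.countP fun r => r.testBit v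
  | [], v => rfl
  | r :: l, v => by
    rw [bitCount, List.countP_cons, bitCount_eq l v, Nat.testBit_eq_decide_div_mod_eq]
    show ((r >>> v) &&& 1) + _ = _
    rw [Nat.and_one_is_mod, Nat.shiftRight_eq_div_pow]
    rcases Nat.mod_two_eq_zero_or_one (r / 2 ^ v) with h | h <;> simp [h, Nat.add_comm]

/-- The colours of a step are computed from the preceding ones. -/
noncomputable def stepOk (i : ℕ) : Bool :=
  forceNat (colCode i) fun C => forceNat (colCode (i + 1)) fun D => forceNat (recol i) fun F =>
    bif isInd i then
      Nat.beq (memOf i).length 1 && forceNat ((memOf i).getD 0 4060) fun p =>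
        Nat.blt p 4060 && (List.range 4060).all fun v =>
          Nat.beq (getP 12 D v) (getP 12 F (getP 12 C v * 2 + bif Nat.beq v p then 1 else 0))
    else
      forceNat (bitsOf (memOf i)) fun S => forceNat (clsOf i) fun k => forceNat ((memOf i).length + 1) fun K =>
        ((posOf i).all fun q => Nat.blt q Data.count) &&
        decide ((posOf i).map vertAt = memOf i) &&
        distinctBits (memOf i) 0 &&
        ((List.range 4060).all fun v => bif Nat.beq (getP 12 C v) k then hasBit S v else !hasBit S v) &&
        forceList ((posOf i).map rowAt) fun R =>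
          (List.range 4060).all fun v =>
            Nat.beq (getP 12 D v) (getP 12 F (getP 12 C v * K + bitCount R v))

theorem steps_0 : (List.range' 0 6).all stepOk = true := by decide +kernel
theorem steps_1 : (List.range' 6 1).all stepOk = true := by decide +kernel
theorem steps_2 : (List.range' 7 14).all stepOk = true := by decide +kernel
theorem steps_3 : (List.range' 21 17).all stepOk = true := by decide +kernel

theorem stepOk_all {i : ℕ} (hi : i < 38) : stepOk i = true := by
  have h : ∀ a n, (List.range' a n).all stepOk = true → a ≤ i → i < a + n → stepOk i = true :=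
    fun a n ha h1 h2 => List.all_eq_true.mp ha i (List.mem_range'_1.mpr ⟨h1, h2⟩)
  rcases Nat.lt_or_ge i 6 with c | c
  · exact h 0 6 steps_0 (by omega) (by omega)
  rcases Nat.lt_or_ge i 7 with c | c
  · exact h 6 1 steps_1 (by omega) (by omega)
  rcases Nat.lt_or_ge i 21 with c | c
  · exact h 7 14 steps_2 (by omega) (by omega)
  · exact h 21 17 steps_3 (by omega) (by omega)

theorem colour_zero : (List.range 4060).all (fun v => Nat.beq (colour 0 v) 0) = true := by decide +kernel

/-- The colours are invariant under graph automorphisms fixing the individualised lines. -/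
theorem colour_inv (u : Equiv.Perm (Fin 4060)) (hu : ∀ v w, Orth (u v) (u w) ↔ Orth v w) :
    ∀ n ≤ 38, (∀ i < n, isInd i = true → ∀ p : Fin 4060, (p : ℕ) = (memOf i).getD 0 4060 → u p = p) →
      ∀ v : Fin 4060, colour n (u v : ℕ) = colour n (v : ℕ) := by
  intro n
  induction n with
  | zero =>
    intro _ _ v
    have h := List.all_eq_true.mp colour_zero
    rw [Nat.eq_of_beq_eq_true (h _ (List.mem_range.mpr (u v).isLt)),
      Nat.eq_of_beq_eq_true (h _ (List.mem_range.mpr v.isLt))]
  | succ i ih =>
    intro hn hfix v
    have IH := ih (by omega) fun j hj => hfix j (by omega)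
    have h := stepOk_all (show i < 38 by omega)
    simp only [stepOk, forceNat_eq, forceList_eq] at h
    cases hI : isInd i <;> simp only [hI, cond_true, cond_false, Bool.and_eq_true, Nat.beq_eq,
      List.all_eq_true, List.mem_range, decide_eq_true_eq, Nat.blt_eq] at h
    · obtain ⟨⟨⟨⟨hq, hmap⟩, hnd⟩, hcls⟩, hcnt⟩ := h
      have e1 := hcnt _ (u v).isLt
      have e2 := hcnt _ v.isLt
      suffices hc : bitCount ((posOf i).map rowAt) (u v : ℕ) = bitCount ((posOf i).map rowAt) (v : ℕ) by
        show getP 12 (colCode (i + 1)) _ = getP 12 (colCode (i + 1)) _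
        have := IH v
        unfold colour at this
        rw [e1, e2, hc, this]
      classical
      have hlt : ∀ a ∈ memOf i, a < 4060 := by
        rw [← hmap]
        intro a ha
        obtain ⟨q, hq', rfl⟩ := List.mem_map.mp ha
        exact (row_spec (hq q hq')).1
      set L : List (Fin 4060) := (memOf i).attach.map fun a => ⟨a.1, hlt a.1 a.2⟩ with hL
      have hnd' : L.Nodup := by
        refine List.Nodup.map ?_ (List.nodup_attach.mpr (distinctBits_sound _ _ hnd).1)
        intro a b e
        exact Subtype.ext (congrArg Fin.val e)
      have hmem : ∀ w : Fin 4060, w ∈ L ↔ colour i (w : ℕ) = clsOf i := by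
        intro w
        have hc := hcls _ w.isLt
        have : w ∈ L ↔ (w : ℕ) ∈ memOf i := by
          rw [hL, List.mem_map]
          exact ⟨fun ⟨a, _, e⟩ => e ▸ a.2, fun hw => ⟨⟨w, hw⟩, List.mem_attach _ _, Fin.ext rfl⟩⟩
        rw [this, ← testBit_bitsOf, ← hasBit_eq]
        show hasBit _ _ = true ↔ getP 12 (colCode i) _ = clsOf i
        rw [← Nat.beq_eq]
        revert hc
        cases Nat.beq (getP 12 (colCode i) (w : ℕ)) (clsOf i) <;> cases hasBit (bitsOf (memOf i)) (w : ℕ) <;> simp
      have hperm : (L.map u).Perm L := by
        rw [List.perm_ext_iff_of_nodup (hnd'.map u.injective) hnd']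
        intro w
        rw [List.mem_map]
        constructor
        · rintro ⟨x, hx, rfl⟩
          rw [hmem, IH x]
          exact (hmem x).mp hx
        · intro hw
          refine ⟨u.symm w, ?_, u.apply_symm_apply w⟩
          rw [hmem, ← IH, u.apply_symm_apply]
          exact (hmem w).mp hw
      have key : ∀ z : Fin 4060, bitCount ((posOf i).map rowAt) (z : ℕ) = L.countP fun w => decide (Orth w z) := by
        intro z
        have e : L.countP (fun w => decide (Orth w z)) =
            (posOf i).countP fun q => (rowAt q).testBit (z : ℕ) := by
          have hval : L.map Fin.val = (posOf i).map vertAt := by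
            rw [hmap, hL, List.map_map]
            exact List.attach_map_subtype_val _
          have h1 : L.countP (fun w => decide (Orth w z)) = (L.map Fin.val).countP
              fun a => decide (∃ h : a < 4060, Orth ⟨a, h⟩ z) := by
            rw [List.countP_map (l := L) (f := Fin.val)]
            refine List.countP_congr fun w _ => ?_
            simp [w.isLt]
          rw [h1, hval, List.countP_map]
          refine List.countP_congr fun q hq' => ?_
          obtain ⟨hv, hr⟩ := row_spec (hq q hq')
          simp only [Function.comp_apply, decide_eq_true_eq]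
          rw [hr z]
          exact ⟨fun ⟨_, h⟩ => h, fun h => ⟨hv, h⟩⟩
        rw [e, bitCount_eq, List.countP_map]
        rfl
      rw [key, key, ← hperm.countP_eq, List.countP_map]
      refine List.countP_congr fun w _ => ?_
      simp only [Function.comp_apply, decide_eq_true_eq]
      exact hu w v
    · obtain ⟨-, hp, hall⟩ := h
      have hfixp := hfix i (by omega) hI ⟨_, hp⟩ rfl
      have e1 := hall _ (u v).isLt
      have e2 := hall _ v.isLt
      show getP 12 (colCode (i + 1)) _ = getP 12 (colCode (i + 1)) _
      have := IH v
      unfold colour at this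
      rw [e1, e2, this]
      congr 3
      rw [Bool.eq_iff_iff, Nat.beq_eq, Nat.beq_eq]
      constructor
      · intro e
        have e' : u v = u ⟨_, hp⟩ := by rw [hfixp]; exact Fin.ext e
        exact congrArg Fin.val (u.injective e')
      · intro e
        rw [show v = ⟨_, hp⟩ from Fin.ext e, hfixp]

end Cfsg.Agent.Lib.RuRankThree68
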