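import Cfsg.Agent.Lib.RuRankThree68.Orbits

/-!
# The suborbit of size 1755 determines the graph
-/

set_option autoImplicit false
set_option maxRecDepth 100000
set_option maxHeartbeats 4000000

namespace Cfsg.Agent.Lib.RuRankThree68

open Cfsg.Spor Cfsg.Agent.Lib.RuAut

/-- Membership in the suborbit of size 1755. -/
def InDelta (w : Fin 4060) : Prop := ∃ k : Fin 1755, aLine k = w

/-- A relation invariant under the stabiliser, looking like the orbital of size 1755. -/
structure Suborbital (R : Fin 4060 → Fin 4060 → Prop) : Prop where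
  symm : ∀ v w, R v w → R w v
  irrefl : ∀ v, ¬ R v v
  inv : ∀ g : lineGroup, g • (0 : Fin 4060) = 0 → ∀ v w, R (g • v) (g • w) ↔ R v w
  row : ∀ w, R 0 w ↔ InDelta w
  degree : ∀ v, Nat.card {w // R v w} = 1755
  proper : ¬ ∀ w, InDelta w → w ≠ 21 → R 21 w

theorem roots_B : (Data.orbitsB.map fun o => (rootOf o : ℕ)) = [21, 665, 201, 44, 29, 2, 5, 1, 0] := by
  decide +kernel

theorem roots_C : (Data.orbitsC.map fun o => (rootOf o : ℕ)) =
    [128, 132, 21, 1, 15, 8, 10, 2, 3, 6, 0] := by decide +kernel

theorem tags_B : (Data.orbitsB.map fun o => o.2.1) =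
    [true, true, true, true, true, false, false, false, false] := by decide +kernel

theorem tags_C : (Data.orbitsC.map fun o => o.2.1) =
    [true, true, true, false, false, false, false, false, false, false, false] := by decide +kernel

theorem rootB (n : ℕ) (hn : n < 9) : ∃ o ∈ Data.orbitsB,
    (rootOf o : ℕ) = [21, 665, 201, 44, 29, 2, 5, 1, 0].getD n 0 ∧
      o.2.1 = [true, true, true, true, true, false, false, false, false].getD n false := by
  have hl : Data.orbitsB.length = 9 := by decide +kernel
  refine ⟨Data.orbitsB[n]'(by omega), List.getElem_mem _, ?_, ?_⟩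
  · rw [← roots_B, List.getD_eq_getElem _ _ (by simp; omega), List.getElem_map]
  · rw [← tags_B, List.getD_eq_getElem _ _ (by simp; omega), List.getElem_map]

theorem delta_21 : InDelta 21 := by
  obtain ⟨o, ho, hr, ht⟩ := rootB 0 (by norm_num)
  have := (root_tag coverB ho).mpr ht
  rwa [show rootOf o = 21 from Fin.ext hr] at this

theorem not_delta_one : ¬ InDelta 1 := by
  obtain ⟨o, ho, hr, ht⟩ := rootB 7 (by norm_num)
  have := mt (root_tag coverB ho).mp (by rw [ht]; decide)
  rwa [show rootOf o = 1 from Fin.ext hr] at this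

theorem not_delta_zero : ¬ InDelta 0 := by
  obtain ⟨o, ho, hr, ht⟩ := rootB 8 (by norm_num)
  have := mt (root_tag coverB ho).mp (by rw [ht]; decide)
  rwa [show rootOf o = 0 from Fin.ext hr] at this

theorem delta_smul {g : lineGroup} (hg : g • (0 : Fin 4060) = 0) (w : Fin 4060) :
    InDelta (g • w) ↔ InDelta w := by
  show (∃ _, _) ↔ ∃ _, _
  rw [← orth_zero, ← orth_zero]
  conv_lhs => rw [← hg]
  exact orth_smul g 0 w

theorem card_delta : Nat.card {w // InDelta w} = 1755 := by
  rw [Nat.card_congr (Equiv.ofBijective (fun k : Fin 1755 => (⟨aLine k, k, rfl⟩ : {w // InDelta w}))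
    ⟨fun a b e => aLine_inj (congrArg Subtype.val e), fun ⟨w, k, e⟩ => ⟨k, Subtype.ext e⟩⟩).symm,
    Nat.card_fin]

theorem delta_move {v : Fin 4060} (hv : InDelta v) :
    ∃ g : lineGroup, g • (0 : Fin 4060) = 0 ∧ g • (21 : Fin 4060) = v := by
  obtain ⟨k, rfl⟩ := hv
  obtain ⟨j, hj⟩ := delta_21
  obtain ⟨f, hf⟩ := aLine_move j k
  exact ⟨_, toLines_fix f, hj ▸ hf⟩

theorem gamma_move {v : Fin 4060} (h0 : v ≠ 0) (hv : ¬ InDelta v) :
    ∃ g : lineGroup, g • (0 : Fin 4060) = 0 ∧ g • (1 : Fin 4060) = v := by
  have hcl : ∀ l : Fin 4060, l ≠ 0 → ¬ InDelta l → ∃ x ∈ nodes (bAt 1) (lvlTree 1), x / 4 = (l : ℕ) := by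
    intro l hl0 hl
    rcases classify_line l.isLt with ⟨k, hk, e⟩ | e | h
    · exact absurd ⟨⟨k, hk⟩, Fin.ext e⟩ hl
    · exact absurd (Fin.ext e) hl0
    · exact h
  obtain ⟨f, hf⟩ := bLine_move (hcl 1 (by decide) not_delta_one) (hcl v h0 hv)
  exact ⟨_, toLines_fix f, hf⟩

/-! ### Counting orbits -/

/-- The total size of the selected orbits. -/
def selSum : List (ℕ × Bool × ℕ) → List Bool → ℕ
  | o :: os, b :: bs => (bif b then o.1 else 0) + selSum os bs
  | _, _ => 0

/-- The size of the selected orbits in the suborbit of size 1755. -/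
def selTag : List (ℕ × Bool × ℕ) → List Bool → ℕ
  | o :: os, b :: bs => (bif b && o.2.1 then o.1 else 0) + selTag os bs
  | _, _ => 0

/-- All selections. -/
def allSel : ℕ → List (List Bool)
  | 0 => [[]]
  | n + 1 => (allSel n).flatMap fun l => [true :: l, false :: l]

theorem mem_allSel : ∀ l : List Bool, l ∈ allSel l.length
  | [] => List.mem_singleton.mpr rfl
  | b :: l => List.mem_flatMap.mpr ⟨l, mem_allSel l, by cases b <;> simp⟩

/-- The forced selection for the second line. -/
def targetB : List Bool := [false, true, true, true, false, true, true, false, true]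

/-- The forced selection for the third line. -/
def targetC : List Bool := [true, true, false, false, false, false, false, false, false, true, false]

theorem choice_B : (allSel 9).all (fun s => !(Nat.beq (selSum Data.orbitsB s) 1755 && !(s.getD 0 false) &&
    s.getD 8 false && !(Nat.beq (selTag Data.orbitsB s) 1754) &&
    Nat.beq (1755 * (1754 - selTag Data.orbitsB s) % 2304) 0) || s == targetB) = true ∧
    selTag Data.orbitsB targetB = 730 := by decide +kernel

theorem choice_C : (allSel 11).all (fun s => !(Nat.beq (selSum Data.orbitsC s) 1755 &&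
    Nat.beq (selTag Data.orbitsC s) 780 && !(s.getD 3 false)) || s == targetC) = true := by
  decide +kernel

theorem selSum_eq (P : (ℕ × Bool × ℕ) → Prop) [DecidablePred P] : ∀ os : List (ℕ × Bool × ℕ),
    (os.map fun o => if P o then o.1 else 0).sum = selSum os (os.map fun o => decide (P o))
  | [] => rfl
  | o :: os => by
    simp only [List.map_cons, List.sum_cons, selSum, selSum_eq P os]
    by_cases h : P o <;> simp [h]

theorem selTag_eq (P : (ℕ × Bool × ℕ) → Prop) [DecidablePred P] : ∀ os : List (ℕ × Bool × ℕ),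
    (os.map fun o => if P o ∧ o.2.1 = true then o.1 else 0).sum = selTag os (os.map fun o => decide (P o))
  | [] => rfl
  | o :: os => by
    simp only [List.map_cons, List.sum_cons, selTag, selTag_eq P os]
    by_cases h : P o <;> cases o.2.1 <;> simp [h]

variable {R : Fin 4060 → Fin 4060 → Prop}

theorem word_inv (hR : Suborbital R) {ws : List (List ℕ)} {p : Fin 4060} {os : List (ℕ × Bool × ℕ)}
    (h : coverOk ws p os = true) : ∀ w ∈ ws, ∀ l,
      (R p (lineAct (wordEl w) l) ↔ R p l) ∧ (InDelta (lineAct (wordEl w) l) ↔ InDelta l) := by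
  intro w hw l
  simp only [coverOk, Bool.and_eq_true, List.all_eq_true, Nat.beq_eq] at h
  obtain ⟨⟨hok, h0⟩, hp⟩ := h.1.1.1 w hw
  have hws := List.all_eq_true.mpr hok
  let g : lineGroup := ⟨lineAct (wordEl w), _, rfl⟩
  have hg : g • (0 : Fin 4060) = 0 := Fin.ext ((word_spec hws 0).trans h0)
  have hgp : g • p = p := Fin.ext ((word_spec hws p).trans hp)
  refine ⟨?_, delta_smul hg l⟩
  have := hR.inv g hg p l
  rwa [hgp] at this

/-- Cardinalities through orbit selections. -/
theorem card_row [DecidableRel R] [DecidablePred InDelta] (hR : Suborbital R) {ws : List (List ℕ)}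
    {p : Fin 4060} {os : List (ℕ × Bool × ℕ)} (h : coverOk ws p os = true) :
    (Finset.univ.filter fun w => R p w).card = selSum os (os.map fun o => decide (R p (rootOf o))) ∧
    (Finset.univ.filter fun w => R p w ∧ InDelta w).card =
      selTag os (os.map fun o => decide (R p (rootOf o))) := by
  have hi := word_inv hR h
  refine ⟨?_, ?_⟩
  · rw [card_invariant h (fun w => R p w) fun w hw l => (hi w hw l).1, selSum_eq]
  · rw [card_invariant h (fun w => R p w ∧ InDelta w) fun w hw l => and_congr (hi w hw l).1 (hi w hw l).2,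
      ← selTag_eq]
    refine congrArg List.sum (List.map_congr_left fun o ho => if_congr (and_congr Iff.rfl ?_) rfl rfl)
    exact root_tag h ho

theorem degree_move [DecidableRel R] (hR : Suborbital R) (P : Fin 4060 → Prop) [DecidablePred P]
    {g : lineGroup} (hg : g • (0 : Fin 4060) = 0) (hP : ∀ w, P (g • w) ↔ P w) (v : Fin 4060) :
    (Finset.univ.filter fun w => R (g • v) w ∧ P w).card = (Finset.univ.filter fun w => R v w ∧ P w).card := by
  refine (Finset.card_equiv (MulAction.toPerm g) fun w => ?_).symm
  simp [hR.inv g hg, hP]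

theorem selection (hR : Suborbital R) [DecidableRel R] :
    (Data.orbitsB.map fun o => decide (R 21 (rootOf o))) = targetB ∧
      (Data.orbitsC.map fun o => decide (R 1 (rootOf o))) = targetC := by
  classical
  have hdeg : ∀ v, (Finset.univ.filter fun w => R v w).card = 1755 := fun v => by
    rw [← hR.degree v, Nat.card_eq_fintype_card, Fintype.card_subtype]
  obtain ⟨hsB, htB⟩ := card_row hR (p := 21) coverB
  obtain ⟨hsC, htC⟩ := card_row hR (p := 1) coverC
  rw [hdeg] at hsB hsC
  set sB := Data.orbitsB.map fun o => decide (R 21 (rootOf o)) with hB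
  set sC := Data.orbitsC.map fun o => decide (R 1 (rootOf o)) with hC
  let G := fun w : Fin 4060 => w ≠ 0 ∧ ¬ InDelta w
  set D := Finset.univ.filter InDelta with hD
  set Γ := Finset.univ.filter G with hΓ
  set a := (Finset.univ.filter fun w => R 21 w ∧ InDelta w).card
  set d := (Finset.univ.filter fun w => R 1 w ∧ InDelta w).card
  have hDc : D.card = 1755 := by
    rw [hD, ← card_delta, Nat.card_eq_fintype_card, Fintype.card_subtype]
  have hΓc : Γ.card = 2304 := by
    have h1 := Finset.card_filter_add_card_filter_not (s := (Finset.univ : Finset (Fin 4060))) InDelta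
    have h2 : Finset.univ.filter (fun w => ¬ InDelta w) = insert 0 Γ := by
      ext w
      by_cases hw : w = 0
      · subst hw
        simp [not_delta_zero]
      · simp [hΓ, G, hw]
    rw [h2, Finset.card_insert_of_notMem (by simp [hΓ, G]), ← hD, hDc, Finset.card_univ, Fintype.card_fin] at h1
    omega
  have h210 : R 21 0 := hR.symm _ _ ((hR.row 21).mpr delta_21)
  have hsplit : (Finset.univ.filter fun w => R 21 w ∧ G w).card + a + 1 = 1755 := by
    have h1 := Finset.card_filter_add_card_filter_not (s := Finset.univ.filter fun w => R 21 w) InDelta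
    rw [Finset.filter_filter, Finset.filter_filter, hdeg] at h1
    have h2 : Finset.univ.filter (fun w => R 21 w ∧ ¬ InDelta w) =
        insert 0 (Finset.univ.filter fun w => R 21 w ∧ G w) := by
      ext w
      by_cases hw : w = 0
      · subst hw
        simp [not_delta_zero, h210]
      · simp [G, hw]
    rw [h2, Finset.card_insert_of_notMem (by simp [G])] at h1
    omega
  have hedge : 1755 * (Finset.univ.filter fun w => R 21 w ∧ G w).card = 2304 * d := by
    have h := Finset.sum_card_bipartiteAbove_eq_sum_card_bipartiteBelow (r := R) (s := D) (t := Γ)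
    have hl : ∀ v ∈ D, (Finset.bipartiteAbove R Γ v).card =
        (Finset.univ.filter fun w => R 21 w ∧ G w).card := by
      intro v hv
      obtain ⟨g, hg, hgv⟩ := delta_move (Finset.mem_filter.mp hv).2
      have := degree_move hR G hg (fun w => by
        refine and_congr (not_congr ?_) (not_congr (delta_smul hg w))
        conv_lhs => rw [← hg]
        exact smul_left_cancel_iff g) 21
      rw [hgv] at this
      rw [← this, Finset.bipartiteAbove, hΓ, Finset.filter_filter]
      simp only [and_comm]
    have hr : ∀ v ∈ Γ, (Finset.bipartiteBelow R D v).card = d := by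
      intro v hv
      obtain ⟨h0, hnd⟩ := (Finset.mem_filter.mp hv).2
      obtain ⟨g, hg, hgv⟩ := gamma_move h0 hnd
      have := degree_move hR InDelta hg (delta_smul hg) 1
      rw [hgv] at this
      rw [show d = _ from this.symm, Finset.bipartiteBelow, hD, Finset.filter_filter]
      refine congrArg Finset.card (Finset.filter_congr fun w _ => ?_)
      exact ⟨fun ⟨h1, h2⟩ => ⟨hR.symm _ _ h2, h1⟩, fun ⟨h1, h2⟩ => ⟨h2, hR.symm _ _ h1⟩⟩
    rw [Finset.sum_congr rfl hl, Finset.sum_congr rfl hr, Finset.sum_const, Finset.sum_const,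
      smul_eq_mul, smul_eq_mul, hDc, hΓc] at h
    exact h
  have ha : a ≠ 1754 := by
    intro e
    refine hR.proper fun w hw hne => ?_
    have hsub : Finset.univ.filter (fun w => R 21 w ∧ InDelta w) ⊆ D.erase 21 := by
      intro z hz
      obtain ⟨h1, h2⟩ := (Finset.mem_filter.mp hz).2
      exact Finset.mem_erase.mpr ⟨fun e => hR.irrefl 21 (e ▸ h1), by simp [hD, h2]⟩
    have heq := Finset.eq_of_subset_of_card_le hsub
      (by rw [Finset.card_erase_of_mem (by simp [hD, delta_21]), hDc]; omega)
    have hmem : w ∈ Finset.univ.filter fun w => R 21 w ∧ InDelta w :=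
      heq ▸ Finset.mem_erase.mpr ⟨hne, by simp [hD, hw]⟩
    exact (Finset.mem_filter.mp hmem).2.1
  have hget : ∀ (os : List (ℕ × Bool × ℕ)) (P : (ℕ × Bool × ℕ) → Prop) [DecidablePred P]
      (rs : List ℕ), (os.map fun o => (rootOf o : ℕ)) = rs → ∀ (Q : Fin 4060 → Prop),
      (∀ o, P o ↔ Q (rootOf o)) → ∀ i (hi : i < rs.length) (r : Fin 4060), (r : ℕ) = rs[i] →
        ((os.map fun o => decide (P o)).getD i false = true ↔ Q r) := by
    intro os P _ rs hrs Q hPQ i hi r hr
    subst hrs
    rw [List.length_map] at hi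
    rw [List.getD_eq_getElem _ _ (by simpa using hi), List.getElem_map, decide_eq_true_eq, hPQ]
    rw [List.getElem_map] at hr
    rw [Fin.ext hr]
  have hB0 : sB.getD 0 false = false := by
    rw [← Bool.not_eq_true, hB, hget _ _ _ roots_B (R 21) (fun _ => Iff.rfl) 0 (by simp) 21 rfl]
    exact hR.irrefl 21
  have hB8 : sB.getD 8 false = true := by
    rw [hB, hget _ _ _ roots_B (R 21) (fun _ => Iff.rfl) 8 (by simp) 0 rfl]
    exact h210
  have hC3 : sC.getD 3 false = false := by
    rw [← Bool.not_eq_true, hC, hget _ _ _ roots_C (R 1) (fun _ => Iff.rfl) 3 (by simp) 1 rfl]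
    exact hR.irrefl 1
  have hlB : sB.length = 9 := by rw [hB, List.length_map]; decide +kernel
  have hlC : sC.length = 11 := by rw [hC, List.length_map]; decide +kernel
  have hg : (Finset.univ.filter fun w => R 21 w ∧ G w).card = 1754 - a := by omega
  rw [hg] at hedge
  have h1 := List.all_eq_true.mp choice_B.1 sB (hlB ▸ mem_allSel sB)
  rw [← hsB, ← htB, hB0, hB8, show Nat.beq a 1754 = false by
    rw [← Bool.not_eq_true, Nat.beq_eq]; exact ha,
    show Nat.beq (1755 * (1754 - a) % 2304) 0 = true by rw [Nat.beq_eq, hedge]; simp] at h1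
  simp only [Nat.beq_refl, Bool.not_false, Bool.and_self, Bool.not_true, Bool.false_or, beq_iff_eq] at h1
  have ha730 : a = 730 := htB.trans (by rw [h1]; exact choice_B.2)
  have hd : d = 780 := by rw [ha730] at hedge; omega
  have h2 := List.all_eq_true.mp choice_C sC (hlC ▸ mem_allSel sC)
  rw [← hsC, ← htC, hd, hC3] at h2
  simp only [Nat.beq_refl, Bool.not_false, Bool.and_self, Bool.not_true, Bool.false_or, beq_iff_eq] at h2
  exact ⟨h1, h2⟩

/-- Two such relations are equal. -/
theorem suborbital_unique {R' : Fin 4060 → Fin 4060 → Prop} (hR : Suborbital R) (hR' : Suborbital R')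
    (v w : Fin 4060) : R v w ↔ R' v w := by
  classical
  have row : ∀ {ws : List (List ℕ)} {p : Fin 4060} {os : List (ℕ × Bool × ℕ)},
      coverOk ws p os = true →
      (os.map fun o => decide (R p (rootOf o))) = (os.map fun o => decide (R' p (rootOf o))) →
      ∀ l, R p l ↔ R' p l := by
    intro ws p os h e l
    obtain ⟨o, ho, hc⟩ := exists_orbit h l
    rw [hc (fun w => R p w) fun w hw m => (word_inv hR h w hw m).1,
      hc (fun w => R' p w) fun w hw m => (word_inv hR' h w hw m).1]
    exact decide_eq_decide.mp (List.map_inj_left.mp e o ho)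
  obtain ⟨sB, sC⟩ := selection hR
  obtain ⟨sB', sC'⟩ := selection hR'
  by_cases h0 : v = 0
  · subst h0
    rw [hR.row, hR'.row]
  by_cases hv : InDelta v
  · obtain ⟨g, hg, rfl⟩ := delta_move hv
    obtain ⟨u, rfl⟩ := MulAction.surjective g w
    rw [hR.inv g hg, hR'.inv g hg]
    exact row (p := 21) coverB (sB.trans sB'.symm) u
  · obtain ⟨g, hg, rfl⟩ := gamma_move h0 hv
    obtain ⟨u, rfl⟩ := MulAction.surjective g w
    rw [hR.inv g hg, hR'.inv g hg]
    exact row (p := 1) coverC (sC.trans sC'.symm) u

end Cfsg.Agent.Lib.RuRankThree68
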