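import Cfsg.Agent.Lib.RuRankThree68.Colours

/-!
# The automorphisms of the orthogonality graph are the elements of the group
-/

set_option autoImplicit false
set_option maxRecDepth 100000
set_option maxHeartbeats 4000000

namespace Cfsg.Agent.Lib.RuRankThree68

open Cfsg.Spor Cfsg.Agent.Lib.RuAut

/-- The automorphism group of the graph. -/
def orthAut : Subgroup (Equiv.Perm (Fin 4060)) where
  carrier := {u | ∀ v w, Orth (u v) (u w) ↔ Orth v w}
  one_mem' := fun _ _ => Iff.rfl
  mul_mem' {a b} ha hb v w := by rw [Equiv.Perm.mul_apply, Equiv.Perm.mul_apply, ha, hb]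
  inv_mem' {a} ha v w := by
    rw [← ha]
    simp [Equiv.Perm.inv_def]

theorem lineGroup_le : lineGroup ≤ orthAut := fun g hg v w => orth_smul ⟨g, hg⟩ v w

/-- A class of a colouring is small. -/
noncomputable def classOk (i p m : ℕ) : Bool :=
  Nat.ble ((List.range 4060).countP fun v => Nat.beq (colour i v) (colour i p)) m

theorem base_checks : (List.range 4).all (fun k => isInd ([0, 2, 4, 21].getD k 0) &&
      Nat.beq ((memOf ([0, 2, 4, 21].getD k 0)).getD 0 4060) ([0, 21, 1, 2].getD k 0)) = true ∧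
    (List.range 38).all (fun i => !isInd i || [0, 2, 4, 21].contains i) = true ∧
    classOk 2 21 1755 = true ∧ classOk 4 1 1280 = true ∧ classOk 21 2 16 = true ∧
    (List.range 4060).all (fun v => Nat.beq (colour 38 v) v) = true := by
  decide +kernel

theorem card_le_orbit (L M : Subgroup (Equiv.Perm (Fin 4060))) (p : Fin 4060)
    (S : Finset (Fin 4060)) (n m : ℕ) (hS : S.card ≤ n) (horb : ∀ u ∈ L, u p ∈ S)
    (hstab : ∀ u ∈ L, u p = p → u ∈ M) (hm : Nat.card M ≤ m) : Nat.card L ≤ n * m := by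
  classical
  have h := (MulAction.stabilizer L p).card_mul_index
  rw [MulAction.index_stabilizer] at h
  rw [← h, Nat.mul_comm n m]
  refine Nat.mul_le_mul (le_trans ?_ hm) (le_trans ?_ hS)
  · exact Nat.card_le_card_of_injective
      (fun u : MulAction.stabilizer L p => (⟨u.1.1, hstab _ u.1.2 u.2⟩ : M))
      fun a b e => Subtype.ext (Subtype.ext (congrArg (fun z : M => (z : Equiv.Perm (Fin 4060))) e))
  · rw [← Set.ncard_coe_finset]
    refine Set.ncard_le_ncard ?_ (Finset.finite_toSet S)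
    rintro _ ⟨u, rfl⟩
    exact horb _ u.2

/-- The automorphisms fixing the first lines of the base. -/
def fixBase (n : ℕ) : Subgroup (Equiv.Perm (Fin 4060)) :=
  orthAut ⊓ ⨅ (k : Fin 4) (_ : (k : ℕ) < n),
    MulAction.stabilizer (Equiv.Perm (Fin 4060)) (![0, 21, 1, 2] k : Fin 4060)

theorem mem_fixBase {n : ℕ} {u : Equiv.Perm (Fin 4060)} :
    u ∈ fixBase n ↔ u ∈ orthAut ∧ ∀ k : Fin 4, (k : ℕ) < n → u (![0, 21, 1, 2] k) = ![0, 21, 1, 2] k := by
  simp [fixBase, Subgroup.mem_inf, Subgroup.mem_iInf, MulAction.mem_stabilizer_iff]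

theorem fixBase_colour {n : ℕ} {u : Equiv.Perm (Fin 4060)} (hu : u ∈ fixBase n) (m : ℕ) (hm : m ≤ 38)
    (hn : ∀ k : Fin 4, [0, 2, 4, 21].getD k 0 < m → (k : ℕ) < n) (v : Fin 4060) :
    colour m (u v : ℕ) = colour m (v : ℕ) := by
  obtain ⟨hA, hF⟩ := mem_fixBase.mp hu
  obtain ⟨hb, hind, -⟩ := base_checks
  refine colour_inv u hA m hm (fun i hi hI p hp => ?_) v
  have := List.all_eq_true.mp hind i (List.mem_range.mpr (by omega))
  rw [hI, Bool.not_true, Bool.false_or, List.contains_iff_mem] at this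
  obtain ⟨k, hk, rfl⟩ := List.getElem_of_mem this
  change k < 4 at hk
  have hk' : [0, 2, 4, 21][k] = [0, 2, 4, 21].getD k 0 := (List.getD_eq_getElem _ _ hk).symm
  have hbk := List.all_eq_true.mp hb k (List.mem_range.mpr hk)
  simp only [Bool.and_eq_true, Nat.beq_eq] at hbk
  have hfix := hF ⟨k, hk⟩ (hn ⟨k, hk⟩ (by rw [← hk']; exact hi))
  have hp' : p = ![0, 21, 1, 2] ⟨k, hk⟩ := by
    refine Fin.ext ?_
    rw [hp, hk', hbk.2]
    interval_cases k <;> rfl
  rw [hp']
  exact hfix

theorem class_card {i p m : ℕ} (h : classOk i p m = true) :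
    (Finset.univ.filter fun v : Fin 4060 => colour i v = colour i p).card ≤ m := by
  simp only [classOk, Nat.ble_eq] at h
  refine le_trans ?_ h
  rw [List.countP_eq_length_filter, ← List.toFinset_card_of_nodup (List.nodup_range.filter _),
    ← Finset.card_image_of_injective _ Fin.val_injective]
  refine Finset.card_le_card fun a ha => ?_
  simp only [Finset.mem_image, Finset.mem_filter, Finset.mem_univ, true_and] at ha
  obtain ⟨v, hv, rfl⟩ := ha
  simp [hv]

/-- An automorphism of the graph fixing the base is trivial. -/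
theorem card_fixBase_four : Nat.card (fixBase 4) ≤ 1 := by
  have h : ∀ u ∈ fixBase 4, u = 1 := by
    intro u hu
    refine Equiv.ext fun v => Fin.ext ?_
    have := fixBase_colour hu 38 le_rfl (fun k _ => k.isLt) v
    have hid := List.all_eq_true.mp base_checks.2.2.2.2.2
    rwa [Nat.eq_of_beq_eq_true (hid _ (List.mem_range.mpr (u v).isLt)),
      Nat.eq_of_beq_eq_true (hid _ (List.mem_range.mpr v.isLt))] at this
  haveI : Subsingleton (fixBase 4) := ⟨fun a b => Subtype.ext ((h _ a.2).trans (h _ b.2).symm)⟩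
  exact Finite.card_le_one_iff_subsingleton.mpr inferInstance

theorem card_step (n : ℕ) (hn : n < 4) (i : ℕ) (hi : i ≤ 38) (c m : ℕ)
    (hearly : ∀ k : Fin 4, [0, 2, 4, 21].getD k 0 < i → (k : ℕ) < n)
    (hc : classOk i ((![0, 21, 1, 2] ⟨n, hn⟩ : Fin 4060) : ℕ) c = true)
    (hm : Nat.card (fixBase (n + 1)) ≤ m) : Nat.card (fixBase n) ≤ c * m := by
  refine card_le_orbit _ _ (![0, 21, 1, 2] ⟨n, hn⟩) _ c m (class_card hc) (fun u hu => ?_)
    (fun u hu h => ?_) hm
  · exact Finset.mem_filter.mpr ⟨Finset.mem_univ _, fixBase_colour hu i hi hearly _⟩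
  · obtain ⟨hA, hF⟩ := mem_fixBase.mp hu
    refine mem_fixBase.mpr ⟨hA, fun k hk => ?_⟩
    rcases Nat.lt_succ_iff_lt_or_eq.mp hk with hk | hk
    · exact hF k hk
    · rwa [show k = ⟨n, hn⟩ from Fin.ext hk]

theorem card_orthAut_le : Nat.card orthAut ≤ 145926144000 := by
  obtain ⟨-, -, h1, h2, h3, -⟩ := base_checks
  have e3 := card_step 3 (by norm_num) 21 (by norm_num) 16 1 (by decide +kernel) (by exact h3) card_fixBase_four
  have e2 := card_step 2 (by norm_num) 4 (by norm_num) 1280 _ (by decide +kernel) (by exact h2) e3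
  have e1 := card_step 1 (by norm_num) 2 (by norm_num) 1755 _ (by decide +kernel) (by exact h1) e2
  have e0 := card_le_orbit orthAut (fixBase 1) 0 Finset.univ 4060 _ (by simp) (fun _ _ => Finset.mem_univ _)
    (fun u hu h => mem_fixBase.mpr ⟨hu, fun k hk => by
      rwa [show k = 0 from Fin.ext (by simp only [Fin.val_zero]; omega)]⟩) e1
  exact e0.trans (by norm_num)

/-- Every automorphism of the graph is in the group. -/
theorem orthAut_eq : orthAut = lineGroup :=
  (Subgroup.eq_of_le_of_card_ge lineGroup_le (by rw [card_lineGroup]; exact card_orthAut_le)).symm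

end Cfsg.Agent.Lib.RuRankThree68
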