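import Cfsg.Agent.Lib.RuRankThree68.Recog
import Cfsg.Prelude.Def_Spor_Ru

/-!
# Recognition from the suborbit lengths
-/

set_option autoImplicit false
set_option maxRecDepth 100000
set_option maxHeartbeats 4000000

namespace Cfsg.Agent.Lib.RuRankThree68

open Cfsg.Spor Cfsg.Agent.Lib.RuAut

/-- The size of the orbit of a line under the stabiliser of the first one. -/
theorem index_stab (l : Fin 4060) (X : Subgroup pointStab) (hX : ∀ f, f ∈ X ↔ toLines f • l = l) :
    X.index = if l = 0 then 1 else if (∃ k, aLine k = l) then 1755 else 2304 := by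
  classical
  let φ : pointStab →* lineGroup := toLines
  letI : MulAction pointStab (Fin 4060) := MulAction.compHom _ φ
  have hXe : X = MulAction.stabilizer pointStab l := by
    ext f
    exact hX f
  rw [hXe, MulAction.index_stabilizer]
  have horb : ∀ z, z ∈ MulAction.orbit pointStab l ↔ ∃ g : lineGroup, g • (0 : Fin 4060) = 0 ∧ g • l = z := by
    intro z
    constructor
    · rintro ⟨f, rfl⟩
      exact ⟨toLines f, toLines_fix f, rfl⟩
    · rintro ⟨g, hg, rfl⟩
      obtain ⟨f, rfl⟩ := exists_toLines hg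
      exact ⟨f, rfl⟩
  by_cases h0 : l = 0
  · subst h0
    rw [if_pos rfl, Set.ncard_eq_one]
    refine ⟨0, Set.ext fun z => ?_⟩
    rw [horb, Set.mem_singleton_iff]
    exact ⟨fun ⟨g, hg, e⟩ => e ▸ hg, fun e => ⟨1, one_smul _ _, by rw [e, one_smul]⟩⟩
  rw [if_neg h0]
  by_cases hl : InDelta l
  · rw [if_pos (show ∃ k, aLine k = l from hl)]
    have : MulAction.orbit pointStab l = {z | InDelta z} := by
      ext z
      rw [horb, Set.mem_ofPred_eq]
      refine ⟨fun ⟨g, hg, e⟩ => e ▸ (delta_smul hg l).mpr hl, fun hz => ?_⟩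
      obtain ⟨g, hg, e1⟩ := delta_move hl
      obtain ⟨g', hg', e2⟩ := delta_move hz
      refine ⟨g' * g⁻¹, ?_, ?_⟩
      · rw [mul_smul, inv_smul_eq_iff.mpr hg.symm, hg']
      · rw [mul_smul, inv_smul_eq_iff.mpr e1.symm, e2]
    rw [this, ← Nat.card_coe_set_eq]
    exact card_delta
  · rw [if_neg (show ¬ ∃ k, aLine k = l from hl)]
    have : MulAction.orbit pointStab l = (insert 0 {z | InDelta z} : Set (Fin 4060))ᶜ := by
      ext z
      rw [horb, Set.mem_compl_iff, Set.mem_insert_iff, Set.mem_ofPred_eq, not_or]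
      refine ⟨?_, fun hz => ?_⟩
      · rintro ⟨g, hg, rfl⟩
        exact ⟨fun e => h0 (smul_left_cancel g (e.trans hg.symm)), mt (delta_smul hg l).mp hl⟩
      · obtain ⟨g, hg, e1⟩ := gamma_move h0 hl
        obtain ⟨g', hg', e2⟩ := gamma_move hz.1 hz.2
        refine ⟨g' * g⁻¹, ?_, ?_⟩
        · rw [mul_smul, inv_smul_eq_iff.mpr hg.symm, hg']
        · rw [mul_smul, inv_smul_eq_iff.mpr e1.symm, e2]
    have hd : ({z | InDelta z} : Set (Fin 4060)).ncard = 1755 := by
      rw [← Nat.card_coe_set_eq]; exact card_delta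
    rw [this, Set.ncard_compl, Set.ncard_insert_of_notMem (by exact not_delta_zero), hd, Nat.card_fin]

/-- The recognition theorem. -/
theorem isoRu_of {Ω : Type*} [Fintype Ω] [DecidableEq Ω] (hΩ : Fintype.card Ω = 4060)
    (G : Subgroup (Equiv.Perm Ω)) [MulAction.IsPretransitive G Ω] (a : Ω)
    (σ : MulAction.stabilizer G a ≃* pointStab) (b c : Ω)
    (hb : (MulAction.orbit (MulAction.stabilizer G a) b).ncard = 1755)
    (hc : (MulAction.orbit (MulAction.stabilizer G a) c).ncard = 2304)
    (hA : ∀ X : Subgroup pointStab, X.index = 1755 → ∃ l : Fin 4060, ∀ f, f ∈ X ↔ toLines f • l = l)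
    (hB : ∀ X : Subgroup pointStab, X.index = 2304 → ∃ l : Fin 4060, ∀ f, f ∈ X ↔ toLines f • l = l) :
    IsoRu G := by
  classical
  -- the two suborbits as orbits of model lines
  have pick : ∀ (p : Ω) (n : ℕ), (MulAction.orbit (MulAction.stabilizer G a) p).ncard = n →
      (∀ X : Subgroup pointStab, X.index = n → ∃ l : Fin 4060, ∀ f, f ∈ X ↔ toLines f • l = l) →
      ∃ l : Fin 4060, (∀ g : MulAction.stabilizer G a, g • p = p ↔ toLines (σ g) • l = l) ∧
        (if l = 0 then 1 else if (∃ k, aLine k = l) then 1755 else 2304) = n := by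
    intro p n hn h
    let X := (MulAction.stabilizer (MulAction.stabilizer G a) p).map σ.toMonoidHom
    have hi : X.index = n := by
      rw [Subgroup.index_map_of_bijective (f := σ.toMonoidHom) σ.bijective,
        MulAction.index_stabilizer, hn]
    obtain ⟨l, hl⟩ := h X hi
    refine ⟨l, fun g => ?_, by rw [← index_stab l X hl, hi]⟩
    rw [← hl]
    exact ⟨fun hg => ⟨g, hg, rfl⟩, fun ⟨x, hx, e⟩ => σ.injective e ▸ hx⟩
  obtain ⟨lb, hlb, hlb'⟩ := pick b _ hb hA
  obtain ⟨lc, hlc, hlc'⟩ := pick c _ hc hB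
  have hbd : lb ≠ 0 ∧ InDelta lb := by
    by_cases h1 : lb = 0
    · rw [if_pos h1] at hlb'; omega
    rw [if_neg h1] at hlb'
    by_cases h2 : InDelta lb
    · exact ⟨h1, h2⟩
    · rw [if_neg (show ¬ ∃ k, aLine k = lb from h2)] at hlb'; omega
  have hcd : lc ≠ 0 ∧ ¬ InDelta lc := by
    by_cases h1 : lc = 0
    · rw [if_pos h1] at hlc'; omega
    rw [if_neg h1] at hlc'
    by_cases h2 : InDelta lc
    · rw [if_pos (show ∃ k, aLine k = lc from h2)] at hlc'; omega
    · exact ⟨h1, h2⟩
  set Ob := MulAction.orbit (MulAction.stabilizer G a) b with hOb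
  set Oc := MulAction.orbit (MulAction.stabilizer G a) c with hOc
  have ha : MulAction.orbit (MulAction.stabilizer G a) a = {a} := by
    ext z
    exact ⟨fun ⟨g, e⟩ => e ▸ g.2, fun e => ⟨1, by rw [e]; exact one_smul _ _⟩⟩
  have hab : a ∉ Ob := fun h => by
    have := MulAction.orbit_eq_iff.mpr h
    rw [ha] at this
    rw [hOb, ← this, Set.ncard_singleton] at hb
    omega
  have hac : a ∉ Oc := fun h => by
    have := MulAction.orbit_eq_iff.mpr h
    rw [ha] at this
    rw [hOc, ← this, Set.ncard_singleton] at hc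
    omega
  have hbc : ∀ z ∈ Ob, z ∉ Oc := fun z hzb hzc => by
    have h1 := MulAction.orbit_eq_iff.mpr hzb
    have h2 := MulAction.orbit_eq_iff.mpr hzc
    have e1 : (MulAction.orbit (MulAction.stabilizer G a) z).ncard = 1755 := by rw [h1]; exact hb
    have e2 : (MulAction.orbit (MulAction.stabilizer G a) z).ncard = 2304 := by rw [h2]; exact hc
    omega
  have hcover : ∀ z : Ω, z = a ∨ z ∈ Ob ∨ z ∈ Oc := by
    have hd : Disjoint Ob Oc := Set.disjoint_left.mpr hbc
    have h1 : (insert a (Ob ∪ Oc)).ncard = 4060 := by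
      rw [Set.ncard_insert_of_notMem (by simp [hab, hac]), Set.ncard_union_eq hd, hb, hc]
    have : insert a (Ob ∪ Oc) = Set.univ := by
      refine Set.eq_univ_of_forall fun z => ?_
      by_contra hz
      have := Set.ncard_lt_card (fun e : insert a (Ob ∪ Oc) = Set.univ => hz (e ▸ Set.mem_univ z))
      rw [h1, Nat.card_eq_fintype_card, hΩ] at this
      omega
    intro z
    have hz : z ∈ insert a (Ob ∪ Oc) := this ▸ Set.mem_univ z
    simpa using hz
  -- the bijection
  let f : Ω → Fin 4060 := fun z => if hz : z ∈ Ob then toLines (σ hz.choose) • lb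
    else if hz : z ∈ Oc then toLines (σ hz.choose) • lc else 0
  have fa : f a = 0 := by simp [f, hab, hac]
  have fval : ∀ (p : Ω) (l : Fin 4060), (∀ g, g • p = p ↔ toLines (σ g) • l = l) →
      ∀ g g' : MulAction.stabilizer G a, g • p = g' • p → toLines (σ g) • l = toLines (σ g') • l := by
    intro p l h g g' e
    have h1 : (g'⁻¹ * g) • p = p := by rw [mul_smul, e, inv_smul_smul]
    have h2 := (h _).mp h1
    rw [map_mul, map_mul, map_inv, map_inv, mul_smul, inv_smul_eq_iff] at h2
    exact h2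
  have fb : ∀ g : MulAction.stabilizer G a, f (g • b) = toLines (σ g) • lb := fun g => by
    have hm : g • b ∈ Ob := MulAction.mem_orbit _ _
    simp only [f, dif_pos hm]
    exact fval b lb hlb _ _ hm.choose_spec
  have fc : ∀ g : MulAction.stabilizer G a, f (g • c) = toLines (σ g) • lc := fun g => by
    have hm : g • c ∈ Oc := MulAction.mem_orbit _ _
    have hn : g • c ∉ Ob := fun h => hbc _ h hm
    simp only [f, dif_neg hn, dif_pos hm]
    exact fval c lc hlc _ _ hm.choose_spec
  have feq : ∀ (g : MulAction.stabilizer G a) (z : Ω), f (g • z) = toLines (σ g) • f z := by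
    intro g z
    rcases hcover z with hz | hz | hz
    · rw [hz, show g • a = a from g.2, fa, toLines_fix]
    · obtain ⟨h, rfl⟩ := hz
      show f (g • h • b) = _ • f (h • b)
      rw [← mul_smul, fb, fb, map_mul, map_mul, mul_smul]
    · obtain ⟨h, rfl⟩ := hz
      show f (g • h • c) = _ • f (h • c)
      rw [← mul_smul, fc, fc, map_mul, map_mul, mul_smul]
  have fsurj : Function.Surjective f := by
    intro l
    have hit : ∀ g : lineGroup, g • (0 : Fin 4060) = 0 → ∃ h : MulAction.stabilizer G a, toLines (σ h) = g := by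
      intro g hg
      obtain ⟨x, rfl⟩ := exists_toLines hg
      exact ⟨σ.symm x, by rw [σ.apply_symm_apply]⟩
    by_cases h0 : l = 0
    · exact ⟨a, fa.trans h0.symm⟩
    by_cases hl : InDelta l
    · obtain ⟨g, hg, e⟩ := delta_move hl
      obtain ⟨g', hg', e'⟩ := delta_move hbd.2
      obtain ⟨h, he⟩ := hit (g * g'⁻¹) (by rw [mul_smul, inv_smul_eq_iff.mpr hg'.symm, hg])
      exact ⟨h • b, by rw [fb, he, mul_smul, inv_smul_eq_iff.mpr e'.symm, e]⟩
    · obtain ⟨g, hg, e⟩ := gamma_move h0 hl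
      obtain ⟨g', hg', e'⟩ := gamma_move hcd.1 hcd.2
      obtain ⟨h, he⟩ := hit (g * g'⁻¹) (by rw [mul_smul, inv_smul_eq_iff.mpr hg'.symm, hg])
      exact ⟨h • c, by rw [fc, he, mul_smul, inv_smul_eq_iff.mpr e'.symm, e]⟩
  let F : Ω ≃ Fin 4060 := Equiv.ofBijective f
    ((Fintype.bijective_iff_surjective_and_card f).mpr ⟨fsurj, by rw [hΩ, Fintype.card_fin]⟩)
  have hFa : F a = 0 := fa
  let P : Equiv.Perm Ω ≃* Equiv.Perm (Fin 4060) := F.permCongrHom
  let G' : Subgroup (Equiv.Perm (Fin 4060)) := G.map P.toMonoidHom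
  have hP : ∀ (u : Equiv.Perm Ω) (z : Ω), P u (F z) = F (u z) := fun u z => by
    simp [P, Equiv.permCongrHom, Equiv.permCongr_apply]
  have hstab : ∀ g : MulAction.stabilizer G a,
      P (g.1 : Equiv.Perm Ω) = (toLines (σ g) : Equiv.Perm (Fin 4060)) := fun g => by
    refine Equiv.ext fun l => ?_
    obtain ⟨z, rfl⟩ := F.surjective l
    rw [hP]
    exact feq g z
  have hcard : Nat.card G = 145926144000 := by
    have h := (MulAction.stabilizer G a).card_mul_index
    rw [MulAction.index_stabilizer, MulAction.orbit_eq_univ, Set.ncard_univ, Nat.card_eq_fintype_card (α := Ω),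
      hΩ, Nat.card_congr σ.toEquiv] at h
    rw [← h, show Nat.card pointStab = 35942400 from card_first_stab]
  have hG' : G' = lineGroup := by
    refine eq_lineGroup G' (fun g hg => ?_) (fun u hu h0 => ?_) (fun v => ?_) ?_
    · obtain ⟨x, rfl⟩ := exists_toLines hg
      exact ⟨_, (σ.symm x).1.2, by rw [MulEquiv.coe_toMonoidHom, hstab, σ.apply_symm_apply]⟩
    · obtain ⟨g, hg, rfl⟩ := hu
      have h1 : (⟨g, hg⟩ : G) • a = a := F.injective (by
        rw [hFa]
        show F (g a) = 0
        rw [← hP, hFa]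
        exact h0)
      rw [show P.toMonoidHom g = _ from hstab ⟨⟨g, hg⟩, h1⟩]
      exact (toLines (σ ⟨⟨g, hg⟩, h1⟩)).2
    · obtain ⟨z, rfl⟩ := F.surjective v
      obtain ⟨g, hg⟩ := MulAction.exists_smul_eq G a z
      refine ⟨P g.1, ⟨g.1, g.2, rfl⟩, ?_⟩
      rw [← hFa, hP]
      exact congrArg F hg
    · rw [← hcard]
      exact (Nat.card_congr (G.equivMapOfInjective _ P.injective).toEquiv).symm
  exact ⟨(G.equivMapOfInjective _ P.injective).trans ((MulEquiv.subgroupCongr hG').trans ruEquiv.symm)⟩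

end Cfsg.Agent.Lib.RuRankThree68
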