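import Cfsg.Agent.Lib.RuRankThree68.Base
import Cfsg.Agent.Lib.RuRankThree68.DataOrbits

/-!
# Orbits of two elements fixing two lines
-/

set_option autoImplicit false
set_option maxRecDepth 100000
set_option maxHeartbeats 4000000
set_option Elab.async false

namespace Cfsg.Agent.Lib.RuRankThree68

open Cfsg.Spor Cfsg.Agent.Lib.RuAut
open Cfsg.Agent.Lib.Compute (getP forceNat forceNat_eq)

/-- The table of an inverse. -/
noncomputable def invTabAt (j : ℕ) : ℕ :=
  ((Data.invTabs.find? fun e => Nat.beq e.1 j).map Prod.snd).getD 0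

/-- The table of a letter: `c` for an element, `32 + j` for an inverse. -/
noncomputable def letterTab (c : ℕ) : ℕ := bif Nat.blt c 32 then tabAt c else invTabAt (c - 32)

/-- The element of a letter. -/
noncomputable def letterEl (c : ℕ) : fourRu := bif Nat.blt c 32 then gen c else (gen (c - 32))⁻¹

/-- The element of a word. -/
noncomputable def wordEl (w : List ℕ) : fourRu := (w.map letterEl).prod

/-- The image of a line under a word. -/
noncomputable def evalW : List ℕ → ℕ → ℕ
  | [], x => x
  | c :: l, x => forceNat (evalW l x) fun y => getP 12 (letterTab c) y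

/-- A letter is valid. -/
noncomputable def letterOk (c : ℕ) : Bool := Nat.blt c 17 || [32, 36, 38, 39].contains c

theorem inv_checks : ([0, 4, 6, 7].all fun j => forceNat (tabAt j) fun t => forceNat (invTabAt j) fun u =>
    (List.range 4060).all fun l => Nat.blt (getP 12 u l) 4060 && Nat.beq (getP 12 t (getP 12 u l)) l) = true := by
  decide +kernel

theorem letter_spec {c : ℕ} (hc : letterOk c = true) (l : Fin 4060) :
    ((lineAct (letterEl c) l : Fin 4060) : ℕ) = getP 12 (letterTab c) l := by
  simp only [letterOk, Bool.or_eq_true, Nat.blt_eq] at hc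
  rcases hc with hc | hc
  · rw [letterEl, letterTab, show Nat.blt c 32 = true by rw [Nat.blt_eq]; omega, cond_true, cond_true]
    exact (tab_spec hc l).2
  · have hj : c - 32 ∈ [0, 4, 6, 7] ∧ 32 ≤ c := by
      rw [List.contains_iff_mem] at hc
      simp only [List.mem_cons, List.not_mem_nil, or_false] at hc ⊢
      omega
    rw [letterEl, letterTab, show Nat.blt c 32 = false by
      rw [← Bool.not_eq_true, Nat.blt_eq]; omega, cond_false, cond_false]
    have h := List.all_eq_true.mp inv_checks _ hj.1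
    simp only [forceNat_eq, List.all_eq_true, List.mem_range, Bool.and_eq_true, Nat.blt_eq, Nat.beq_eq] at h
    obtain ⟨hlt, he⟩ := h l l.isLt
    have hj17 : c - 32 < 17 := by
      have := hj.1
      simp only [List.mem_cons, List.not_mem_nil, or_false] at this
      omega
    have e : lineAct (gen (c - 32)) ⟨_, hlt⟩ = l := Fin.ext ((tab_spec hj17 _).2.trans he)
    rw [map_inv, Equiv.Perm.inv_def]
    nth_rewrite 1 [← e]
    rw [Equiv.symm_apply_apply]

theorem word_spec : ∀ {w : List ℕ}, w.all letterOk = true → ∀ l : Fin 4060,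
    ((lineAct (wordEl w) l : Fin 4060) : ℕ) = evalW w l
  | [], _, l => by simp [wordEl, evalW]
  | c :: w, h, l => by
    rw [List.all_cons, Bool.and_eq_true] at h
    rw [wordEl, List.map_cons, List.prod_cons, map_mul, Equiv.Perm.mul_apply, letter_spec h.1, evalW,
      forceNat_eq, ← word_spec h.2 l]
    rfl

/-- The lines orthogonal to the first, as a bit set. -/
noncomputable def deltaBits : ℕ := bitsOf ((List.range 1755).map fun k => aNode k / 4)

theorem deltaBits_spec (w : Fin 4060) : deltaBits.testBit (w : ℕ) = true ↔ ∃ k : Fin 1755, aLine k = w := by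
  rw [deltaBits, testBit_bitsOf, List.mem_map]
  exact ⟨fun ⟨k, hk, e⟩ => ⟨⟨k, List.mem_range.mp hk⟩, Fin.ext e⟩,
    fun ⟨k, e⟩ => ⟨k, List.mem_range.mpr k.isLt, congrArg Fin.val e⟩⟩

/-- The point at a position of an orbit tree. -/
noncomputable def nodeAt (t i : ℕ) : ℕ := getP 25 t i % 4096

/-- The points of one orbit. -/
noncomputable def pointsOf (o : ℕ × Bool × ℕ) : List ℕ := (List.range o.1).map (nodeAt o.2.2)

/-- An orbit tree is correct. -/
noncomputable def orbitOk (ws : List (List ℕ)) (o : ℕ × Bool × ℕ) : Bool :=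
  forceNat o.2.2 fun t => Nat.blt 0 o.1 &&
    (forceNat deltaBits fun A => bif o.2.1 then hasBit A (nodeAt t 0) else !hasBit A (nodeAt t 0)) &&
    (List.range o.1).all fun i => Nat.blt (nodeAt t i) 4060 && (Nat.beq i 0 ||
      (Nat.blt (getP 25 t i / 4096 % 4096) i && Nat.blt (getP 25 t i / 16777216) ws.length &&
        Nat.beq (evalW (ws.getD (getP 25 t i / 16777216) []) (nodeAt t (getP 25 t i / 4096 % 4096)))
          (nodeAt t i)))

/-- A family of orbits covers all lines. -/
noncomputable def coverOk (ws : List (List ℕ)) (p : ℕ) (os : List (ℕ × Bool × ℕ)) : Bool :=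
  (ws.all fun w => w.all letterOk && Nat.beq (evalW w 0) 0 && Nat.beq (evalW w p) p) &&
    os.all (orbitOk ws) && Nat.beq (os.flatMap pointsOf).length 4060 &&
    distinctBits (os.flatMap pointsOf) 0

theorem coverB : coverOk Data.wordsB 21 Data.orbitsB = true := by decide +kernel
theorem coverC : coverOk Data.wordsC 1 Data.orbitsC = true := by decide +kernel

variable {ws : List (List ℕ)} {p : ℕ} {os : List (ℕ × Bool × ℕ)}

/-- A set invariant under the words contains each orbit or misses it. -/
theorem orbit_const (h : coverOk ws p os = true) (S : Fin 4060 → Prop)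
    (hS : ∀ w ∈ ws, ∀ l, S (lineAct (wordEl w) l) ↔ S l) {o : ℕ × Bool × ℕ} (ho : o ∈ os) :
    ∀ i < o.1, ∀ (hi : nodeAt o.2.2 i < 4060) (h0 : nodeAt o.2.2 0 < 4060),
      S ⟨nodeAt o.2.2 i, hi⟩ ↔ S ⟨nodeAt o.2.2 0, h0⟩ := by
  simp only [coverOk, Bool.and_eq_true, List.all_eq_true] at h
  obtain ⟨⟨⟨hw, hall⟩, -⟩, -⟩ := h
  have hok := hall o ho
  simp only [orbitOk, forceNat_eq, Bool.and_eq_true, List.all_eq_true, List.mem_range, Nat.blt_eq,
    Bool.or_eq_true, Nat.beq_eq] at hok
  obtain ⟨-, hn⟩ := hok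
  intro i
  induction i using Nat.strong_induction_on with
  | _ i ih =>
    intro hi hl h0
    rcases Nat.eq_zero_or_pos i with rfl | hpos
    · rfl
    obtain ⟨-, hz | ⟨⟨hp, hg⟩, he⟩⟩ := hn i hi
    · omega
    have hpl := (hn _ (by omega : getP 25 o.2.2 i / 4096 % 4096 < o.1)).1
    rw [← ih _ hp (by omega) hpl h0]
    have hmem : ws.getD (getP 25 o.2.2 i / 16777216) [] ∈ ws := by
      rw [List.getD_eq_getElem _ _ hg]; exact List.getElem_mem _
    rw [← hS _ hmem ⟨_, hpl⟩]
    exact iff_of_eq (congrArg S (Fin.ext ((word_spec (List.all_eq_true.mpr (hw _ hmem).1.1) _).trans he).symm))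

/-- The root of an orbit. -/
noncomputable def rootOf (o : ℕ × Bool × ℕ) : Fin 4060 := Fin.ofNat 4060 (nodeAt o.2.2 0)

/-- The size of an invariant set is the sum of the sizes of its orbits. -/
theorem card_invariant (h : coverOk ws p os = true) (S : Fin 4060 → Prop) [DecidablePred S]
    (hS : ∀ w ∈ ws, ∀ l, S (lineAct (wordEl w) l) ↔ S l) :
    (Finset.univ.filter S).card = (os.map fun o => if S (rootOf o) then o.1 else 0).sum := by
  have hc := fun {o : ℕ × Bool × ℕ} (ho : o ∈ os) => orbit_const h S hS ho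
  simp only [coverOk, Bool.and_eq_true, List.all_eq_true, Nat.beq_eq] at h
  obtain ⟨⟨⟨-, hall⟩, hlen⟩, hd⟩ := h
  have hlt : ∀ o ∈ os, ∀ i < o.1, nodeAt o.2.2 i < 4060 ∧ 0 < o.1 := by
    intro o ho i hi
    have hok := hall o ho
    simp only [orbitOk, forceNat_eq, Bool.and_eq_true, List.all_eq_true, List.mem_range, Nat.blt_eq] at hok
    exact ⟨(hok.2 i hi).1, hok.1.1⟩
  have hnd : ((os.flatMap pointsOf).map (Fin.ofNat 4060)).Nodup := by
    refine (distinctBits_sound _ _ hd).1.map_on ?_
    intro a ha b hb e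
    have bound : ∀ a ∈ os.flatMap pointsOf, a < 4060 := by
      intro a ha
      obtain ⟨o, ho, hao⟩ := List.mem_flatMap.mp ha
      obtain ⟨i, hi, rfl⟩ := List.mem_map.mp hao
      exact (hlt o ho i (List.mem_range.mp hi)).1
    have := congrArg Fin.val e
    simpa [Nat.mod_eq_of_lt (bound a ha), Nat.mod_eq_of_lt (bound b hb)] using this
  have huniv : ((os.flatMap pointsOf).map (Fin.ofNat 4060)).toFinset = Finset.univ := by
    refine Finset.eq_univ_of_card _ ?_
    rw [List.toFinset_card_of_nodup hnd, List.length_map, hlen, Fintype.card_fin]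
  rw [← huniv, List.filter_toFinset, List.toFinset_card_of_nodup (hnd.filter _), ← List.countP_eq_length_filter,
    List.countP_map, List.countP_flatMap]
  refine congrArg List.sum (List.map_congr_left fun o ho => ?_)
  show (pointsOf o).countP _ = _
  have hconst : ∀ a ∈ pointsOf o, (S (Fin.ofNat 4060 a) ↔ S (rootOf o)) := by
    intro a ha
    obtain ⟨i, hi, rfl⟩ := List.mem_map.mp ha
    have hi' := List.mem_range.mp hi
    obtain ⟨hl, hpos⟩ := hlt o ho i hi'
    have h0 := (hlt o ho 0 hpos).1
    have e : ∀ {m : ℕ} (hm : m < 4060), (Fin.ofNat 4060 m) = ⟨m, hm⟩ := fun hm =>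
      Fin.ext (Nat.mod_eq_of_lt hm)
    rw [rootOf, e hl, e h0]
    exact hc ho i hi' hl h0
  split_ifs with hr
  · rw [List.countP_eq_length.mpr fun a ha => by
      simpa only [Function.comp_apply, decide_eq_true_eq] using (hconst a ha).mpr hr, pointsOf,
      List.length_map, List.length_range]
  · refine List.countP_eq_zero.mpr fun a ha => ?_
    simp only [Function.comp_apply, decide_eq_true_eq]
    exact fun hn => hr ((hconst a ha).mp hn)

/-- Every line lies in one of the orbits. -/
theorem exists_orbit (h : coverOk ws p os = true) (l : Fin 4060) :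
    ∃ o ∈ os, ∀ S : Fin 4060 → Prop, (∀ w ∈ ws, ∀ m, S (lineAct (wordEl w) m) ↔ S m) →
      (S l ↔ S (rootOf o)) := by
  classical
  have h' := h
  simp only [coverOk, Bool.and_eq_true, List.all_eq_true, Nat.beq_eq] at h'
  obtain ⟨⟨⟨-, hall⟩, hlen⟩, hd⟩ := h'
  have hlt : ∀ o ∈ os, ∀ i < o.1, nodeAt o.2.2 i < 4060 ∧ 0 < o.1 := by
    intro o ho i hi
    have hok := hall o ho
    simp only [orbitOk, forceNat_eq, Bool.and_eq_true, List.all_eq_true, List.mem_range, Nat.blt_eq] at hok
    exact ⟨(hok.2 i hi).1, hok.1.1⟩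
  have hmem : (l : ℕ) ∈ os.flatMap pointsOf := by
    have hsub : (os.flatMap pointsOf).toFinset ⊆ Finset.range 4060 := by
      intro a ha
      obtain ⟨o, ho, hao⟩ := List.mem_flatMap.mp (List.mem_toFinset.mp ha)
      obtain ⟨i, hi, rfl⟩ := List.mem_map.mp hao
      exact Finset.mem_range.mpr (hlt o ho i (List.mem_range.mp hi)).1
    have := Finset.eq_of_subset_of_card_le hsub
      (by rw [List.toFinset_card_of_nodup (distinctBits_sound _ _ hd).1, hlen, Finset.card_range])
    exact List.mem_toFinset.mp (this ▸ Finset.mem_range.mpr l.isLt)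
  obtain ⟨o, ho, hlo⟩ := List.mem_flatMap.mp hmem
  obtain ⟨i, hi, e⟩ := List.mem_map.mp hlo
  have hi' := List.mem_range.mp hi
  refine ⟨o, ho, fun S hS => ?_⟩
  obtain ⟨hl, hpos⟩ := hlt o ho i hi'
  have h0 := (hlt o ho 0 hpos).1
  have := orbit_const h S hS ho i hi' hl h0
  rw [show (⟨nodeAt o.2.2 i, hl⟩ : Fin 4060) = l from Fin.ext e] at this
  rwa [show rootOf o = ⟨nodeAt o.2.2 0, h0⟩ from Fin.ext (Nat.mod_eq_of_lt h0)]

/-- The tag of an orbit says whether its root is orthogonal to the first line. -/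
theorem root_tag (h : coverOk ws p os = true) {o : ℕ × Bool × ℕ} (ho : o ∈ os) :
    (∃ k, aLine k = rootOf o) ↔ o.2.1 = true := by
  simp only [coverOk, Bool.and_eq_true, List.all_eq_true] at h
  have hok := h.1.1.2 o ho
  simp only [orbitOk, forceNat_eq, Bool.and_eq_true, List.all_eq_true, List.mem_range, Nat.blt_eq] at hok
  obtain ⟨⟨hpos, hA⟩, hn⟩ := hok
  have h0 := (hn 0 hpos).1
  rw [← deltaBits_spec, ← hasBit_eq, show ((rootOf o : Fin 4060) : ℕ) = nodeAt o.2.2 0 from
    Nat.mod_eq_of_lt h0]
  revert hA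
  cases o.2.1 <;> cases hasBit deltaBits (nodeAt o.2.2 0) <;> simp

end Cfsg.Agent.Lib.RuRankThree68
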