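import Cfsg.Agent.Lib.RuRankThree68.Forced
import Cfsg.Agent.Lib.RuRankThree68.Graph

/-!
# A transitive group on the lines with the same point stabiliser is the Rudvalis group
-/

set_option autoImplicit false
set_option maxRecDepth 100000
set_option maxHeartbeats 4000000

namespace Cfsg.Agent.Lib.RuRankThree68

open Cfsg.Spor Cfsg.Agent.Lib.RuAut

variable (G : Subgroup (Equiv.Perm (Fin 4060)))

/-- The orbital of the lines 0 and 21. -/
def orbital (v w : Fin 4060) : Prop := ∃ u ∈ G, u 0 = v ∧ u 21 = w

theorem orbital_smul {u : Equiv.Perm (Fin 4060)} (hu : u ∈ G) (v w : Fin 4060) :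
    orbital G (u v) (u w) ↔ orbital G v w := by
  constructor
  · rintro ⟨x, hx, h1, h2⟩
    exact ⟨u⁻¹ * x, mul_mem (inv_mem hu) hx, by simp [Equiv.Perm.mul_apply, Equiv.Perm.inv_def, h1],
      by simp [Equiv.Perm.mul_apply, Equiv.Perm.inv_def, h2]⟩
  · rintro ⟨x, hx, rfl, rfl⟩
    exact ⟨u * x, mul_mem hu hx, rfl, rfl⟩

theorem suborbital (hL : ∀ g : lineGroup, g • (0 : Fin 4060) = 0 → (g : Equiv.Perm (Fin 4060)) ∈ G)
    (hS : ∀ u ∈ G, u 0 = 0 → u ∈ lineGroup) (htr : ∀ v, ∃ u ∈ G, u 0 = v)
    (hcard : Nat.card G = 145926144000) : Suborbital (orbital G) := by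
  classical
  have hrow : ∀ w, orbital G 0 w ↔ InDelta w := by
    intro w
    constructor
    · rintro ⟨u, hu, h0, rfl⟩
      exact (delta_smul (g := ⟨u, hS u hu h0⟩) h0 21).mpr delta_21
    · intro hw
      obtain ⟨g, hg, rfl⟩ := delta_move hw
      exact ⟨g, hL g hg, hg, rfl⟩
  have hdeg : ∀ v, Nat.card {w // orbital G v w} = 1755 := by
    intro v
    obtain ⟨u, hu, rfl⟩ := htr v
    rw [← card_delta]
    exact (Nat.card_congr (u.subtypeEquiv fun w => by rw [orbital_smul G hu, hrow])).symm
  have hcol0 : ∀ w, orbital G w 0 ↔ InDelta w := by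
    have hcol : ∀ v, (Finset.univ.filter fun w => orbital G w v).card =
        (Finset.univ.filter fun w => orbital G w 0).card := by
      intro v
      obtain ⟨u, hu, rfl⟩ := htr v
      exact (Finset.card_equiv u fun w => by simp [orbital_smul G hu]).symm
    have h := Finset.sum_card_bipartiteAbove_eq_sum_card_bipartiteBelow (r := orbital G)
      (s := (Finset.univ : Finset (Fin 4060))) (t := Finset.univ)
    simp only [Finset.bipartiteAbove, Finset.bipartiteBelow] at h
    rw [Finset.sum_congr rfl (fun v _ => show _ = 1755 by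
        rw [← Fintype.card_subtype, ← Nat.card_eq_fintype_card]; exact hdeg v),
      Finset.sum_congr rfl (fun v _ => hcol v), Finset.sum_const, Finset.sum_const, Finset.card_univ,
      Fintype.card_fin, smul_eq_mul, smul_eq_mul] at h
    have hc : (Finset.univ.filter fun w => orbital G w 0).card = 1755 := by omega
    have hn0 : ¬ orbital G 0 0 := fun h => not_delta_zero ((hrow 0).mp h)
    have hDc : (Finset.univ.filter InDelta).card = 1755 := by
      rw [← Fintype.card_subtype, ← Nat.card_eq_fintype_card, card_delta]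
    have hstab : ∀ g : lineGroup, g • (0 : Fin 4060) = 0 → ∀ w, orbital G (g • w) 0 ↔ orbital G w 0 := by
      intro g hg w
      conv_lhs => rw [← hg]
      exact orbital_smul G (hL g hg) w 0
    have hsub : ∀ w, orbital G w 0 → InDelta w := by
      intro w hw
      by_contra hd
      have hbig : insert 0 (Finset.univ.filter InDelta) ⊇ (Finset.univ.filter fun z => ¬ orbital G z 0) := by
        intro z hz
        by_contra hz'
        simp only [Finset.mem_insert, Finset.mem_filter, Finset.mem_univ, true_and, not_or] at hz hz'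
        obtain ⟨g, hg, hgz⟩ := gamma_move hz'.1 hz'.2
        obtain ⟨g', hg', hgw⟩ := gamma_move (by rintro rfl; exact hn0 hw) hd
        rw [← hgz, hstab g hg, ← hstab g' hg', hgw] at hz
        exact hz hw
      have h1 := Finset.card_le_card hbig
      have h2 := Finset.card_insert_le (0 : Fin 4060) (Finset.univ.filter InDelta)
      have h3 := Finset.card_filter_add_card_filter_not (s := (Finset.univ : Finset (Fin 4060)))
        (fun z => orbital G z 0)
      rw [hc, Finset.card_univ, Fintype.card_fin] at h3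
      omega
    intro w
    refine ⟨hsub w, fun hw => ?_⟩
    have heq := Finset.eq_of_subset_of_card_le (s := Finset.univ.filter fun z => orbital G z 0)
      (t := Finset.univ.filter InDelta)
      (fun z hz => Finset.mem_filter.mpr ⟨Finset.mem_univ _, hsub z (Finset.mem_filter.mp hz).2⟩)
      (by rw [hc, hDc])
    have : w ∈ Finset.univ.filter fun z => orbital G z 0 := heq ▸ by simp [hw]
    exact (Finset.mem_filter.mp this).2
  have hsymm : ∀ v w, orbital G v w → orbital G w v := by
    intro v w h
    obtain ⟨u, hu, rfl⟩ := htr v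
    obtain ⟨z, rfl⟩ := u.surjective w
    rw [orbital_smul G hu] at h ⊢
    exact (hcol0 z).mpr ((hrow z).mp h)
  have hirr : ∀ v, ¬ orbital G v v := by
    rintro v ⟨u, -, h0, h1⟩
    exact absurd (u.injective (h0.trans h1.symm)) (by decide)
  have hinv : ∀ g : lineGroup, g • (0 : Fin 4060) = 0 → ∀ v w,
      orbital G (g • v) (g • w) ↔ orbital G v w := fun g hg v w => orbital_smul G (hL g hg) v w
  refine ⟨hsymm, hirr, hinv, hrow, hdeg, fun hall => ?_⟩
  -- otherwise the first line with its suborbit would be a block of size 1756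
  set B : Finset (Fin 4060) := insert 0 (Finset.univ.filter InDelta) with hB
  have hBc : B.card = 1756 := by
    rw [hB, Finset.card_insert_of_notMem (by simp [not_delta_zero]), ← Fintype.card_subtype,
      ← Nat.card_eq_fintype_card, card_delta]
  have hnb : ∀ x ∈ B, ∀ z, z ∈ B ↔ z = x ∨ orbital G x z := by
    intro x hx
    have hadj : ∀ z ∈ B, z = x ∨ orbital G x z := by
      intro z hz
      by_cases hzx : z = x
      · exact Or.inl hzx
      refine Or.inr ?_
      simp only [hB, Finset.mem_insert, Finset.mem_filter, Finset.mem_univ, true_and] at hx hz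
      rcases hx with rfl | hx
      · exact (hrow z).mpr (hz.resolve_left hzx)
      rcases hz with rfl | hz
      · exact (hcol0 x).mpr hx
      obtain ⟨g, hg, rfl⟩ := delta_move hx
      obtain ⟨z', rfl⟩ := MulAction.surjective g z
      rw [delta_smul hg] at hz
      rw [hinv g hg]
      exact hall z' hz fun e => hzx (by rw [e])
    intro z
    refine ⟨hadj z, fun h => ?_⟩
    have heq := Finset.eq_of_subset_of_card_le
      (show B ⊆ insert x (Finset.univ.filter fun z => orbital G x z) from fun y hy => by
        simpa using hadj y hy)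
      (by rw [Finset.card_insert_of_notMem (by simp [hirr]), hBc, ← Fintype.card_subtype,
        ← Nat.card_eq_fintype_card, hdeg])
    rw [heq]
    simpa using h
  let M : Subgroup (Equiv.Perm (Fin 4060)) :=
    { carrier := {u | u ∈ G ∧ ∀ z, u z ∈ B ↔ z ∈ B}
      one_mem' := ⟨one_mem _, fun _ => Iff.rfl⟩
      mul_mem' := fun {a b} ha hb => ⟨mul_mem ha.1 hb.1, fun z => by
        rw [Equiv.Perm.mul_apply, ha.2, hb.2]⟩
      inv_mem' := fun {a} ha => ⟨inv_mem ha.1, fun z => by
        rw [← ha.2]; simp [Equiv.Perm.inv_def]⟩ }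
  have h0B : (0 : Fin 4060) ∈ B := by simp [hB]
  have hM : ∀ u ∈ G, u 0 ∈ B → u ∈ M := fun u hu h => ⟨hu, fun z => by
    rw [hnb _ h (u z), hnb _ h0B z, orbital_smul G hu, EmbeddingLike.apply_eq_iff_eq]⟩
  have horb : MulAction.orbit M (0 : Fin 4060) = (B : Set (Fin 4060)) := by
    ext z
    constructor
    · rintro ⟨u, rfl⟩
      exact (u.2.2 0).mpr h0B
    · intro hz
      obtain ⟨u, hu, rfl⟩ := htr z
      exact ⟨⟨u, hM u hu hz⟩, rfl⟩
  have hst : Nat.card (MulAction.stabilizer M (0 : Fin 4060)) = 35942400 := by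
    rw [← card_line_stab]
    refine Nat.card_eq_of_bijective (fun u => (⟨⟨u.1.1, hS _ u.1.2.1 u.2⟩, u.2⟩ :
      MulAction.stabilizer lineGroup (0 : Fin 4060))) ⟨?_, ?_⟩
    · intro a b e
      have h' := congrArg (fun z : MulAction.stabilizer lineGroup (0 : Fin 4060) =>
        ((z.1 : lineGroup) : Equiv.Perm (Fin 4060))) e
      exact Subtype.ext (Subtype.ext h')
    · rintro ⟨g, hg⟩
      exact ⟨⟨⟨g, hM g (hL g hg) (by rw [show (g : Equiv.Perm (Fin 4060)) 0 = 0 from hg]; exact h0B)⟩, hg⟩,
        rfl⟩
  have h := (MulAction.stabilizer M (0 : Fin 4060)).card_mul_index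
  rw [MulAction.index_stabilizer, horb, Set.ncard_coe_finset, hBc, hst] at h
  have hdvd := Subgroup.card_dvd_of_le (show M ≤ G from fun u hu => hu.1)
  rw [hcard, ← h] at hdvd
  norm_num at hdvd

/-- A transitive group of the same order with the same point stabiliser is the group of lines. -/
theorem eq_lineGroup (hL : ∀ g : lineGroup, g • (0 : Fin 4060) = 0 → (g : Equiv.Perm (Fin 4060)) ∈ G)
    (hS : ∀ u ∈ G, u 0 = 0 → u ∈ lineGroup) (htr : ∀ v, ∃ u ∈ G, u 0 = v)
    (hcard : Nat.card G = 145926144000) : G = lineGroup := by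
  have hR := suborbital G hL hS htr hcard
  have hR' := suborbital lineGroup (fun g _ => g.2) (fun u hu _ => hu)
    (fun v => by
      obtain ⟨g, hg⟩ := MulAction.exists_smul_eq lineGroup (0 : Fin 4060) v
      exact ⟨g, g.2, hg⟩) card_lineGroup
  have horth : ∀ v w, Orth v w ↔ orbital lineGroup v w := by
    intro v w
    obtain ⟨g, rfl⟩ := MulAction.exists_smul_eq lineGroup (0 : Fin 4060) v
    obtain ⟨u, rfl⟩ := MulAction.surjective g w
    rw [orth_smul, orth_zero]
    exact ((orbital_smul lineGroup g.2 0 u).trans (hR'.row u)).symm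
  refine Subgroup.eq_of_le_of_card_ge (fun u hu => ?_) (by rw [hcard, card_lineGroup])
  rw [← orthAut_eq]
  intro v w
  rw [horth, horth, ← suborbital_unique hR hR', ← suborbital_unique hR hR']
  exact orbital_smul G hu v w

end Cfsg.Agent.Lib.RuRankThree68
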