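import Cfsg.Agent.Lib.RuRankThree68.Base
import Cfsg.Agent.Lib.RuRankThree68.DataRows

/-!
# Neighbourhood rows along an orbit tree
-/

set_option autoImplicit false
set_option maxRecDepth 100000
set_option maxHeartbeats 4000000
set_option Elab.async false

namespace Cfsg.Agent.Lib.RuRankThree68

open Cfsg.Spor Cfsg.Agent.Lib.RuAut
open Cfsg.Agent.Lib.Compute (getP forceNat forceNat_eq)

/-- The row at a position. -/
noncomputable def rowAt (i : ℕ) : ℕ := (Data.rows.getD (i / 64) []).getD (i % 64) 0

/-- The line at a position. -/
noncomputable def vertAt (i : ℕ) : ℕ := getP 32 Data.tree i % 4096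

/-- The parent position. -/
noncomputable def parAt (i : ℕ) : ℕ := getP 32 Data.tree i / 4096 % 4096

/-- The element moving the parent here. -/
noncomputable def elemAt (i : ℕ) : ℕ := getP 32 Data.tree i / 16777216

/-- The row at the root consists of the orthogonal lines. -/
noncomputable def rootOk : Bool :=
  Nat.beq (vertAt 0) 0 && forceNat (bitsOf ((List.range 1755).map fun k => aNode k / 4)) fun A =>
    forceNat (rowAt 0) fun R =>
      (List.range 4060).all fun w => bif hasBit A w then hasBit R w else !hasBit R w

theorem root_check : rootOk = true := by decide +kernel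

/-- The row at a position is the image of the row at its parent. -/
noncomputable def rowOk (i : ℕ) : Bool :=
  Nat.blt (parAt i) i && Nat.blt (elemAt i) 17 && forceNat (tabAt (elemAt i)) fun t =>
    Nat.beq (getP 12 t (vertAt (parAt i))) (vertAt i) &&
      forceNat (rowAt (parAt i)) fun P => forceNat (rowAt i) fun R =>
        (List.range 4060).all fun w => bif hasBit P w then hasBit R (getP 12 t w)
          else !hasBit R (getP 12 t w)

theorem rows_0 : (List.range' 1 125).all rowOk = true := by decide +kernel
theorem rows_1 : (List.range' 126 125).all rowOk = true := by decide +kernel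
theorem rows_2 : (List.range' 251 125).all rowOk = true := by decide +kernel
theorem rows_3 : (List.range' 376 125).all rowOk = true := by decide +kernel
theorem rows_4 : (List.range' 501 125).all rowOk = true := by decide +kernel
theorem rows_5 : (List.range' 626 125).all rowOk = true := by decide +kernel

theorem rowOk_all {i : ℕ} (h1 : 1 ≤ i) (h2 : i < Data.count) : rowOk i = true := by
  have h : ∀ a, (List.range' a 125).all rowOk = true → a ≤ i → i < a + 125 → rowOk i = true :=
    fun a ha h1 h2 => List.all_eq_true.mp ha i (List.mem_range'_1.mpr ⟨h1, h2⟩)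
  unfold Data.count at h2
  rcases Nat.lt_or_ge i 126 with c | c
  · exact h 1 rows_0 (by omega) (by omega)
  rcases Nat.lt_or_ge i 251 with c | c
  · exact h 126 rows_1 (by omega) (by omega)
  rcases Nat.lt_or_ge i 376 with c | c
  · exact h 251 rows_2 (by omega) (by omega)
  rcases Nat.lt_or_ge i 501 with c | c
  · exact h 376 rows_3 (by omega) (by omega)
  rcases Nat.lt_or_ge i 626 with c | c
  · exact h 501 rows_4 (by omega) (by omega)
  · exact h 626 rows_5 (by omega) (by omega)

/-- A row is the neighbourhood of its line. -/
theorem row_spec : ∀ {i : ℕ}, i < Data.count → ∃ hv : vertAt i < 4060,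
    ∀ w : Fin 4060, (rowAt i).testBit w = true ↔ Orth ⟨vertAt i, hv⟩ w := by
  intro i
  induction i using Nat.strong_induction_on with
  | _ i ih =>
    intro hi
    rcases Nat.eq_zero_or_pos i with rfl | hpos
    · have h := root_check
      simp only [rootOk, forceNat_eq, Bool.and_eq_true, Nat.beq_eq, List.all_eq_true, List.mem_range] at h
      obtain ⟨h0, hw⟩ := h
      refine ⟨by omega, fun w => ?_⟩
      rw [show (⟨vertAt 0, by omega⟩ : Fin 4060) = 0 from Fin.ext h0, orth_zero]
      have := hw w w.isLt
      rw [hasBit_eq, hasBit_eq] at this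
      have hA : (bitsOf ((List.range 1755).map fun k => aNode k / 4)).testBit (w : ℕ) = true ↔
          ∃ k : Fin 1755, aLine k = w := by
        rw [testBit_bitsOf, List.mem_map]
        exact ⟨fun ⟨k, hk, e⟩ => ⟨⟨k, List.mem_range.mp hk⟩, Fin.ext e⟩,
          fun ⟨k, e⟩ => ⟨k, List.mem_range.mpr k.isLt, congrArg Fin.val e⟩⟩
      rw [← hA]
      revert this
      cases (bitsOf ((List.range 1755).map fun k => aNode k / 4)).testBit (w : ℕ) <;>
        cases (rowAt 0).testBit (w : ℕ) <;> simp
    · have h := rowOk_all hpos hi
      simp only [rowOk, forceNat_eq, Bool.and_eq_true, Nat.blt_eq, Nat.beq_eq, List.all_eq_true,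
        List.mem_range] at h
      obtain ⟨⟨hp, he⟩, hvert, hw⟩ := h
      obtain ⟨hv, hrow⟩ := ih _ hp (by omega)
      obtain ⟨hlt, hg⟩ := tab_spec he ⟨vertAt (parAt i), hv⟩
      simp only at hlt hg
      rw [hvert] at hlt hg
      refine ⟨hlt, fun w => ?_⟩
      obtain ⟨u, hu⟩ := (lineAct (gen (elemAt i))).surjective w
      rw [← hu, show (⟨vertAt i, hlt⟩ : Fin 4060) = lineAct (gen (elemAt i)) ⟨vertAt (parAt i), hv⟩
        from Fin.ext hg.symm, orth_lineAct, ← hrow u, (tab_spec he u).2]
      have := hw u u.isLt
      rw [hasBit_eq, hasBit_eq] at this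
      revert this
      cases (rowAt (parAt i)).testBit (u : ℕ) <;>
        cases (rowAt i).testBit (getP 12 (tabAt (elemAt i)) (u : ℕ)) <;> simp

end Cfsg.Agent.Lib.RuRankThree68
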